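import Groth.Agent.H23.P1Charts
import Groth.Agent.FibDim.AffineSpaceFibre
import Groth.Agent.FibDim.BaseChange
import Groth.Agent.FibDim.Minimal
import Groth.Agent.DimFormula.DimAdd
import Groth.Agent.DimFormula.FlatFibres
import Groth.Agent.DimFormula.ClosedSub
import Mathlib.CategoryTheory.Limits.Shapes.WidePullbacks

/-! Fibres of a finite fibre power of the projective line. -/

set_option autoImplicit false
set_option linter.style.haveILetI false
set_option backward.isDefEq.respectTransparency false
set_option backward.isDefEq.respectTransparency.types false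

universe u

open CategoryTheory Limits AlgebraicGeometry

namespace Groth.Agent.H9P1Pow

variable {X : Scheme.{u}}

theorem rd_specMap_C_le (R : Type u) [CommRing R] (y : Spec (CommRingCat.of (Polynomial R))) :
    FibDim.rd (Spec.map (CommRingCat.ofHom (Polynomial.C (R := R)))) y ≤ 1 := by
  let e : MvPolynomial (ULift.{u} (Fin 1)) R ≃ₐ[R] Polynomial R := MvPolynomial.uniqueAlgEquiv R _
  let j := Spec.map (e.toRingEquiv.toCommRingCatIso).hom ≫
    (AffineSpace.SpecIso (ULift.{u} (Fin 1)) (CommRingCat.of R)).inv
  have hj : Spec.map (CommRingCat.ofHom (Polynomial.C (R := R))) =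
      j ≫ (𝔸(ULift.{u} (Fin 1); Spec (CommRingCat.of R)) ↘ Spec (CommRingCat.of R)) := by
    rw [Category.assoc, AffineSpace.SpecIso_inv_over, ← Spec.map_comp]
    congr 1
    refine CommRingCat.hom_ext (RingHom.ext fun r => ?_)
    exact (e.commutes r).symm
  rw [hj, FibDim.rd_comp, FibDim.rd_eq_zero_of_quasiFinite j, add_zero]
  exact FibDim.rd_affineSpace_le 1 _

theorem rd_toBase_le (p : CohB1.ProjSpaceOver 1 X) : FibDim.rd (CohB1.ProjSpaceOver.toBase 1 X) p ≤ 1 := by
  haveI := H23.P1Charts.isProper_toSpec.{u}
  refine (FibDim.rd_baseChange_le (IsPullback.of_hasPullback (CohB1.ProjSpace.toSpec 1 (ULift.{u} ℤ))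
    (specULiftZIsTerminal.from X)) p).trans ?_
  generalize (pullback.fst (CohB1.ProjSpace.toSpec 1 (ULift.{u} ℤ)) (specULiftZIsTerminal.from X)) p = q
  obtain ⟨i, y, rfl⟩ := TopologicalSpace.Opens.mem_iSup.1 (H23.P1Charts.iSup_chartZ.{u}.ge (Set.mem_univ q))
  have h := FibDim.rd_comp (H23.P1Charts.chartZ i) (CohB1.ProjSpace.toSpec 1 (ULift.{u} ℤ)) y
  rw [FibDim.rd_eq_zero_of_quasiFinite (H23.P1Charts.chartZ i), add_zero,
    specULiftZIsTerminal.hom_ext (H23.P1Charts.chartZ i ≫ CohB1.ProjSpace.toSpec 1 (ULift.{u} ℤ))
      (Spec.map (CommRingCat.ofHom (Polynomial.C (R := ULift.{u} ℤ))))] at h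
  rw [← h]
  exact rd_specMap_C_le _ y

/-- The fibre power of the projective line. -/
noncomputable abbrev pow (n : ℕ) (X : Scheme.{u}) : Scheme.{u} :=
  widePullback X (fun _ : Fin n => CohB1.ProjSpaceOver 1 X) (fun _ => CohB1.ProjSpaceOver.toBase 1 X)

/-- Its structure map. -/
noncomputable abbrev base (n : ℕ) (X : Scheme.{u}) : pow n X ⟶ X :=
  WidePullback.base (fun _ : Fin n => CohB1.ProjSpaceOver.toBase 1 X)

/-- Forget the first factor. -/
noncomputable def drop (n : ℕ) (X : Scheme.{u}) : pow (n + 1) X ⟶ pow n X :=
  WidePullback.lift (base (n + 1) X) (fun j => WidePullback.π _ j.succ)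
    (fun j => WidePullback.π_arrow _ j.succ)

theorem isPullback_succ (n : ℕ) (X : Scheme.{u}) :
    IsPullback (WidePullback.π (fun _ : Fin (n + 1) => CohB1.ProjSpaceOver.toBase 1 X) 0) (drop n X)
      (CohB1.ProjSpaceOver.toBase 1 X) (base n X) := by
  refine IsPullback.of_isLimit' ⟨by rw [WidePullback.π_arrow, drop, WidePullback.lift_base]⟩ ?_
  refine PullbackCone.IsLimit.mk _
    (fun s => WidePullback.lift (s.snd ≫ base n X)
      (fun j => Fin.cases s.fst (fun l => s.snd ≫ WidePullback.π _ l) j)
      (fun j => Fin.cases s.condition (fun l => by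
        show (s.snd ≫ WidePullback.π _ l) ≫ _ = _
        rw [Category.assoc, WidePullback.π_arrow]) j)) (fun s => ?_) (fun s => ?_) fun s m h1 h2 => ?_
  · exact WidePullback.lift_π _ _ _ _ _
  · refine WidePullback.hom_ext _ _ _ (fun l => ?_) ?_
    · rw [Category.assoc, drop, WidePullback.lift_π, WidePullback.lift_π]; rfl
    · rw [Category.assoc, drop, WidePullback.lift_base, WidePullback.lift_base]
  · refine WidePullback.hom_ext _ _ _ (fun j => ?_) ?_
    · rw [WidePullback.lift_π]
      refine Fin.cases ?_ (fun l => ?_) j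
      · exact h1
      · show m ≫ WidePullback.π _ l.succ = s.snd ≫ WidePullback.π _ l
        rw [← h2, Category.assoc, drop, WidePullback.lift_π]
    · rw [WidePullback.lift_base, ← h2, Category.assoc, drop, WidePullback.lift_base]

theorem lft_and_rd_base (X : Scheme.{u}) : ∀ n : ℕ, ∃ (_ : LocallyOfFiniteType (base n X)) (_ : IsProper (base n X)),
    ∀ p, FibDim.rd (base n X) p ≤ n
  | 0 => by
    haveI : IsIso (base 0 X) := ⟨WidePullback.lift (𝟙 X) (fun j => j.elim0) (fun j => j.elim0),
      WidePullback.hom_ext _ _ _ (fun j => j.elim0) (by simp), WidePullback.lift_base _ _ _ _⟩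
    exact ⟨inferInstance, inferInstance, fun p => (FibDim.rd_eq_zero_of_quasiFinite _ p).le⟩
  | n + 1 => by
    obtain ⟨h1, h2, h3⟩ := lft_and_rd_base X n
    haveI := h1
    haveI := h2
    haveI hd : IsProper (drop n X) :=
      MorphismProperty.of_isPullback (P := @IsProper) (isPullback_succ n X) inferInstance
    have he : base (n + 1) X = drop n X ≫ base n X := (WidePullback.lift_base _ _ _ _).symm
    rw [he]
    refine ⟨inferInstance, inferInstance, fun p => ?_⟩
    rw [FibDim.rd_comp]
    refine add_le_add (h3 _) ?_
    exact (FibDim.rd_baseChange_le (isPullback_succ n X) p).trans (rd_toBase_le _)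

/-- In a fibre power of the projective line over an integral base, a point of codimension `n` over
the generic point is closed in its fibre. -/
theorem rd_eq_zero_of_codim [IsIntegral X] [IsLocallyNoetherian X] (n : ℕ) (ξ : pow n X)
    (hξ : base n X ξ = genericPoint X) (hc : ringKrullDim ((pow n X).presheaf.stalk ξ) = n) :
    FibDim.rd (base n X) ξ = 0 := by
  obtain ⟨h1, -, h3⟩ := lft_and_rd_base X n
  haveI := h1
  haveI := LocallyOfFiniteType.isLocallyNoetherian (base n X)
  haveI := DimFormula.isLocallyNoetherian_fiber (base n X) (base n X ξ)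
  obtain ⟨z, hz, hzm, hze⟩ := DimFormula.exists_maximal_cd_eq_codim ξ
  have hcodim : DimFormula.codim ξ = n := by
    rw [DimFormula.ringKrullDim_stalk] at hc
    exact_mod_cast hc
  have hzf : base n X z = base n X ξ := by
    rw [hξ]
    have h := hz.map (base n X).continuous
    rw [hξ] at h
    exact (((genericPoint_spec X).specializes (Set.mem_univ _)).antisymm h).eq.symm
  have h := DimFormula.cd_add_rd_of_fibre (base n X) hz hzf
  have := h3 z
  omega

/-- A flat closed integral subscheme of a fibre power of the projective line, of codimension equal to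
the number of factors and dominant over the base, is finite over it and surjects onto it. -/
theorem isFinite_surjective [IsIntegral X] [IsLocallyNoetherian X] (n : ℕ) (W : Scheme.{u}) [IsIntegral W]
    (i : W ⟶ pow n X) [IsClosedImmersion i]
    (hcodim : ringKrullDim ((pow n X).presheaf.stalk (i (genericPoint W))) = n)
    [IsDominant (i ≫ base n X)] [Flat (i ≫ base n X)] :
    IsFinite (i ≫ base n X) ∧ Surjective (i ≫ base n X) := by
  obtain ⟨h1, h2, -⟩ := lft_and_rd_base X n
  haveI := h1
  haveI := h2
  let f := i ≫ base n X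
  haveI : IsProper f := by dsimp only [f]; infer_instance
  have hgen : f (genericPoint W) = genericPoint X := (DimFormula.generic_fibre_dim f).1
  have h0 : FibDim.rd f (genericPoint W) = 0 := by
    show FibDim.rd (i ≫ base n X) _ = 0
    rw [DimFormula.rd_closedSub]
    exact rd_eq_zero_of_codim n _ hgen hcodim
  have hrd : ∀ w, FibDim.rd f w = 0 := fun w => by
    have ha := (DimFormula.codim_formula f w).1
    have hb := DimFormula.codim_map_le f w
    omega
  haveI : LocallyQuasiFinite f := by
    refine (locallyQuasiFinite_iff_isDiscrete_preimage_singleton).2 fun y => ?_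
    have hsing : ∀ a ∈ f ⁻¹' {y}, ∀ b ∈ f ⁻¹' {y}, a ⤳ b → a = b := fun a ha b hb hab => by
      by_contra hne
      have := FibDim.rd_lt f hab hne (Eq.trans ha (Eq.symm hb))
      rw [hrd, hrd] at this
      exact lt_irrefl _ this
    haveI := DimFormula.isLocallyNoetherian_fiber f y
    haveI : T1Space ↥(f.fiber y) := ⟨fun a => by
      rw [← closure_eq_iff_isClosed, Set.eq_singleton_iff_unique_mem]
      refine ⟨subset_closure rfl, fun b hb => ?_⟩
      exact (f.fiberι y).isEmbedding.injective (hsing _ (FibDim.fiber_apply_fiberι f a) _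
        (FibDim.fiber_apply_fiberι f b) ((specializes_iff_mem_closure.2 hb).map (f.fiberι y).continuous)).symm⟩
    haveI : IsNoetherian (f.fiber y) := ⟨⟩
    haveI : Finite ↥(f.fiber y) := by
      haveI : Finite ↑(irreducibleComponents ↥(f.fiber y)) :=
        TopologicalSpace.NoetherianSpace.finite_irreducibleComponents.to_subtype
      refine Finite.of_injective (β := ↑(irreducibleComponents ↥(f.fiber y)))
        (fun a => ⟨irreducibleComponent a, irreducibleComponent_mem_irreducibleComponents a⟩) fun a b hab => ?_
      obtain ⟨η, hη⟩ := QuasiSober.sober (isIrreducible_irreducibleComponent (x := a))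
        isClosed_irreducibleComponent
      have hcl : irreducibleComponent a = {η} := hη.def.symm.trans isClosed_singleton.closure_eq
      have ha : a ∈ irreducibleComponent a := mem_irreducibleComponent
      have hb : b ∈ irreducibleComponent a := by
        rw [show irreducibleComponent a = irreducibleComponent b from congrArg Subtype.val hab]
        exact mem_irreducibleComponent
      rw [hcl] at ha hb
      exact (Set.mem_singleton_iff.1 ha).trans (Set.mem_singleton_iff.1 hb).symm
    haveI : DiscreteTopology ↥(f.fiber y) := inferInstance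
    rw [isDiscrete_iff_discreteTopology]
    exact (f.fiberHomeo y).discreteTopology
  refine ⟨(IsFinite.iff_isProper_and_locallyQuasiFinite _).2 ⟨inferInstance, inferInstance⟩, ⟨?_⟩⟩
  intro x
  have hcl : IsClosed (Set.range f) := f.isClosedMap.isClosed_range
  exact hcl.closure_subset_iff.2 subset_rfl (f.denseRange x)

end Groth.Agent.H9P1Pow
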